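import Mathlib
import Cfsg.Agent.H19.Ly.E.B

set_option autoImplicit false
set_option maxRecDepth 100000
set_option Elab.async false
set_option linter.all false

namespace H19.Ly.E
open H29

theorem eS2x_0 : En f2 tX lS2_0 0 bS2_0 25 := en_of_chk (by decide +kernel)

theorem eS2x_1 : En f2 tX lS2_1 bS2_0 bS2_1 29 := en_of_chk (by decide +kernel)

theorem eS2x_2 : En f2 tX lS2_2 bS2_1 bS2_2 2 := en_of_chk (by decide +kernel)

theorem eS2x_3 : En f2 tX lS2_3 bS2_2 bS2_3 0 := en_of_chk (by decide +kernel)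

end H19.Ly.E
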