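import Mathlib
import Cfsg.Agent.H19.Ly.E.B

set_option autoImplicit false
set_option maxRecDepth 100000
set_option Elab.async false
set_option linter.all false

namespace H19.Ly.E
open H29

theorem eS3t_0 : En f3 tI lS3_0 0 bS3_0 103 := en_of_chk (by decide +kernel)

theorem eS3t_1 : En f3 tI lS3_1 bS3_0 bS3_1 108 := en_of_chk (by decide +kernel)

theorem eS3x_0 : En f3 tX lS3_0 0 bS3_0 12 := en_of_chk (by decide +kernel)

theorem eS3x_1 : En f3 tX lS3_1 bS3_0 bS3_1 8 := en_of_chk (by decide +kernel)

end H19.Ly.E
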