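import Mathlib
import Cfsg.Agent.H19.Ly.E.B

set_option autoImplicit false
set_option maxRecDepth 100000
set_option Elab.async false
set_option linter.all false

namespace H19.Ly.E
open H29

theorem eS4t_0 : En f4 tI lS4_0 0 bS4_0 105 := en_of_chk (by decide +kernel)

theorem eS4x_0 : En f4 tX lS4_0 0 bS4_0 2 := en_of_chk (by decide +kernel)

theorem eDt_0 : En fDt (fun _ => false) lDt_0 0 bDt_0 0 := en_of_chk (by decide +kernel)

theorem eDt_1 : En fDt (fun _ => false) lDt_1 bDt_0 bDt_1 0 := en_of_chk (by decide +kernel)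

theorem eDx_0 : En fDx (fun _ => false) lDx_0 0 bDx_0 0 := en_of_chk (by decide +kernel)

end H19.Ly.E
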